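import Mathlib
import Cfsg.Agent.Lib.Helper50.FOT.Defs

/-!
# Project FOT (S3999), package [ORD]

Element orders in a group with Frobenius data `FD X K C`, and the count of `p`-elements for
`p ∣ |K|`.
-/

set_option autoImplicit false
open scoped Pointwise

namespace Cfsg.Agent.Lib.Helper4.FOT

open Cfsg.Agent.Lib.Helper50.FOT

universe u

theorem ord_dvd {X : Type u} [Group X] [Finite X] {K C : Subgroup X} (h : FD X K C) (x : X) :
    orderOf x ∣ Nat.card K ∨ orderOf x ∣ Nat.card C := by
  rcases h.cover x with hx | ⟨g, hx⟩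
  · left
    exact Subgroup.orderOf_dvd_natCard K hx
  · right
    obtain ⟨c, hc, rfl⟩ := (Subgroup.mem_smul_pointwise_iff_exists x (MulAut.conj g) C).mp hx
    have h1 : orderOf (MulAut.conj g • c) = orderOf c := by
      rw [MulAut.smul_def]
      exact MulEquiv.orderOf_eq (MulAut.conj g) c
    rw [h1]
    exact Subgroup.orderOf_dvd_natCard C hc

theorem mem_K_of_dvd {X : Type u} [Group X] [Finite X] {K C : Subgroup X} (h : FD X K C) (x : X)
    (hx : orderOf x ∣ Nat.card K) : x ∈ K := by
  rcases h.cover x with hxK | ⟨g, hxg⟩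
  · exact hxK
  · obtain ⟨c, hc, rfl⟩ := (Subgroup.mem_smul_pointwise_iff_exists x (MulAut.conj g) C).mp hxg
    have h1 : orderOf (MulAut.conj g • c) = orderOf c := by
      rw [MulAut.smul_def]
      exact MulEquiv.orderOf_eq (MulAut.conj g) c
    rw [h1] at hx
    have h2 : orderOf c ∣ Nat.card C := Subgroup.orderOf_dvd_natCard C hc
    have h3 : orderOf c ∣ Nat.gcd (Nat.card K) (Nat.card C) := Nat.dvd_gcd hx h2
    rw [h.cop] at h3
    have h4 : orderOf c = 1 := Nat.dvd_one.mp h3
    have h5 : c = 1 := orderOf_eq_one_iff.mp h4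
    rw [h5, smul_one]
    exact K.one_mem

theorem pkgOrd : PkgOrd.{u} := by
  intro X _ _ K C h
  refine ⟨ord_dvd h, ?_⟩
  intro p hp hpK
  haveI : Fact p.Prime := ⟨hp⟩
  haveI := h.nilp
  obtain ⟨P⟩ : Nonempty (Sylow p K) := inferInstance
  have hPn : (P : Subgroup K).Normal :=
    Sylow.normal_of_normalizerCondition Group.normalizerCondition_of_isNilpotent P
  have hPc : Nat.card P = p ^ (Nat.card K).factorization p := Sylow.card_eq_multiplicity P
  have hdvd : p ^ (Nat.card K).factorization p ∣ Nat.card K := Nat.ordProj_dvd _ _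
  have hiff : ∀ x : X, orderOf x ∣ p ^ (Nat.card K).factorization p ↔
      x ∈ (P : Subgroup K).map K.subtype := by
    intro x
    constructor
    · intro hx
      have hxK : x ∈ K := mem_K_of_dvd h x (hx.trans hdvd)
      have hk : orderOf (⟨x, hxK⟩ : K) ∣ p ^ (Nat.card K).factorization p := by
        have : orderOf ((⟨x, hxK⟩ : K) : X) = orderOf (⟨x, hxK⟩ : K) := Subgroup.orderOf_coe _
        rw [← this]
        exact hx
      have hpg : IsPGroup p (Subgroup.zpowers (⟨x, hxK⟩ : K)) := by
        apply IsPGroup.of_card (n := (orderOf (⟨x, hxK⟩ : K)).factorization p)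
        rw [Nat.card_zpowers]
        obtain ⟨j, hj, hj2⟩ := (Nat.dvd_prime_pow hp).mp hk
        rw [hj2, Nat.Prime.factorization_pow hp]
        simp
      obtain ⟨Q, hQ⟩ := hpg.exists_le_sylow
      haveI : Unique (Sylow p K) := Sylow.unique_of_normal P hPn
      have hQP : Q = P := Subsingleton.elim _ _
      rw [hQP] at hQ
      exact ⟨⟨x, hxK⟩, hQ (Subgroup.mem_zpowers _), rfl⟩
    · rintro ⟨k, hk, rfl⟩
      have h1 : orderOf (K.subtype k) = orderOf k := Subgroup.orderOf_coe k
      rw [h1, ← hPc]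
      have h2 : orderOf (⟨k, hk⟩ : (P : Subgroup K)) ∣ Nat.card (P : Subgroup K) :=
        orderOf_dvd_natCard _
      have h3 : orderOf (((⟨k, hk⟩ : (P : Subgroup K)) : K)) = orderOf (⟨k, hk⟩ : (P : Subgroup K)) :=
        Subgroup.orderOf_coe _
      rw [← h3] at h2
      exact h2
  have hcard : Nat.card {x : X // orderOf x ∣ p ^ (Nat.card K).factorization p}
      = Nat.card ((P : Subgroup K).map K.subtype) :=
    Nat.card_congr (Equiv.subtypeEquivRight hiff)
  rw [hcard, Subgroup.card_subtype, hPc]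

end Cfsg.Agent.Lib.Helper4.FOT
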