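import Mathlib
import Cfsg.Agent.Lib.Helper50.FOT.Defs

/-!
# Project FOT (S3999), package [SOLV]

A group with Frobenius data `FD X K C` is solvable iff `C` is.
-/

set_option autoImplicit false
open scoped Pointwise

namespace Cfsg.Agent.Lib.Helper4.FOT

open Cfsg.Agent.Lib.Helper50.FOT

universe u

theorem pkgSolv : PkgSolv.{u} := by
  intro X _ _ K C h
  constructor
  · intro hX
    exact Group.isSolvable_of_isSolvable_injective C.subtype_injective
  · intro hC
    haveI := h.normal
    haveI := h.nilp
    haveI : Group.IsSolvable K := IsNilpotent.to_isSolvable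
    have hsurj : Function.Surjective ((QuotientGroup.mk' K).comp C.subtype) := by
      intro y
      obtain ⟨x, rfl⟩ := QuotientGroup.mk'_surjective K y
      obtain ⟨⟨⟨k, hk⟩, ⟨c, hc⟩⟩, hkc⟩ := h.compl.2 x
      have hkc' : k * c = x := hkc
      subst hkc'
      refine ⟨⟨c, hc⟩, ?_⟩
      show (QuotientGroup.mk' K) c = (QuotientGroup.mk' K) (k * c)
      rw [map_mul]
      have : (QuotientGroup.mk' K) k = 1 := (QuotientGroup.eq_one_iff k).mpr hk
      rw [this, one_mul]
    haveI : Group.IsSolvable (X ⧸ K) := solvable_of_surjective hsurj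
    refine solvable_of_ker_le_range K.subtype (QuotientGroup.mk' K) ?_
    rw [QuotientGroup.ker_mk', Subgroup.range_subtype]

end Cfsg.Agent.Lib.Helper4.FOT
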